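import Mathlib

set_option linter.unusedSectionVars false
set_option linter.unusedVariables false
set_option linter.unusedSimpArgs false
set_option autoImplicit false
set_option linter.style.haveILetI false
set_option maxHeartbeats 400000

universe w v u

noncomputable section

namespace Groth.Agent.Helper6.Serre

open CategoryTheory CategoryTheory.Limits

/-- a linear functional vanishing on the kernel of `T` factors through `T` -/
lemma exists_factor_of_ker_le {k : Type w} [Field k] {V W : Type v} [AddCommGroup V] [Module k V]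
    [AddCommGroup W] [Module k W] (T : V →ₗ[k] W) (l : Module.Dual k V)
    (h : LinearMap.ker T ≤ LinearMap.ker l) : ∃ m : Module.Dual k W, ∀ x, l x = m (T x) := by
  have h1 : l ∈ (LinearMap.ker T).dualAnnihilator := by
    rw [Submodule.mem_dualAnnihilator]
    intro x hx
    exact h hx
  rw [← LinearMap.range_dualMap_eq_dualAnnihilator_ker] at h1
  obtain ⟨m, hm⟩ := h1
  exact ⟨m, fun x => by rw [← hm]; rfl⟩

variable (k : Type w) [Field k] (T : Type u) [Category.{v} T] [Preadditive T] [Linear k T]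

/-- Serre duality data on a `k`-linear category -/
structure SerreData where
  /-- the Serre functor -/
  S : T ⥤ T
  /-- the duality -/
  c : ∀ X Y : T, (X ⟶ Y) ≃ₗ[k] Module.Dual k (Y ⟶ S.obj X)
  hc₁ : ∀ (X Y Y' : T) (f : X ⟶ Y) (g : Y ⟶ Y'),
      c X Y' (f ≫ g) = (c X Y f) ∘ₗ Linear.leftComp k (S.obj X) g
  hc₂ : ∀ (X' X Y : T) (a : X' ⟶ X) (f : X ⟶ Y),
      c X' Y (a ≫ f) = (c X Y f) ∘ₗ Linear.rightComp k Y (S.map a)

variable {k T}
variable (D : SerreData k T) [∀ X Y : T, Module.Finite k (X ⟶ Y)]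

namespace SerreData

/-- the trace `Hom(X, SX) → k` -/
def tr (X : T) : (X ⟶ D.S.obj X) →ₗ[k] k := D.c X X (𝟙 X)

lemma pair_eq_tr_left {X Y : T} (f : X ⟶ Y) (Z : Y ⟶ D.S.obj X) :
    D.c X Y f Z = D.tr X (f ≫ Z) := by
  have := D.hc₁ X X Y (𝟙 X) f
  rw [Category.id_comp] at this
  rw [this]
  rfl

lemma pair_eq_tr_right {X Y : T} (f : X ⟶ Y) (Z : Y ⟶ D.S.obj X) :
    D.c X Y f Z = D.tr Y (Z ≫ D.S.map f) := by
  have := D.hc₂ X Y Y f (𝟙 Y)
  rw [Category.comp_id] at this
  rw [this]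
  rfl

lemma tr_comm {X Y : T} (f : X ⟶ Y) (Z : Y ⟶ D.S.obj X) :
    D.tr X (f ≫ Z) = D.tr Y (Z ≫ D.S.map f) := by
  rw [← pair_eq_tr_left, pair_eq_tr_right]

lemma nondeg_left {X Y : T} (f : X ⟶ Y) (h : ∀ Z : Y ⟶ D.S.obj X, D.tr X (f ≫ Z) = 0) :
    f = 0 := by
  apply (D.c X Y).injective
  rw [map_zero]
  apply LinearMap.ext
  intro Z
  rw [pair_eq_tr_left, h]
  rfl

lemma rep_left {X Y : T} (m : Module.Dual k (Y ⟶ D.S.obj X)) :
    ∃ f : X ⟶ Y, ∀ Z, m Z = D.tr X (f ≫ Z) := by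
  obtain ⟨f, hf⟩ := (D.c X Y).surjective m
  exact ⟨f, fun Z => by rw [← hf, pair_eq_tr_left]⟩

lemma nondeg_right {X Y : T} (Z : Y ⟶ D.S.obj X) (h : ∀ f : X ⟶ Y, D.tr X (f ≫ Z) = 0) :
    Z = 0 := by
  rw [← Module.forall_dual_apply_eq_zero_iff k Z]
  intro m
  obtain ⟨f, hf⟩ := D.rep_left m
  rw [hf, h]

lemma rep_right {X Y : T} (l : Module.Dual k (X ⟶ Y)) :
    ∃ Z : Y ⟶ D.S.obj X, ∀ f, l f = D.tr X (f ≫ Z) := by
  -- the map `Z ↦ (f ↦ tr (f ≫ Z))` is injective between spaces of the same dimension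
  let Φ : (Y ⟶ D.S.obj X) →ₗ[k] Module.Dual k (X ⟶ Y) :=
    { toFun := fun Z =>
        { toFun := fun f => D.tr X (f ≫ Z)
          map_add' := fun f g => by rw [Preadditive.add_comp, map_add]
          map_smul' := fun a f => by rw [Linear.smul_comp, map_smul]; rfl }
      map_add' := fun Z Z' => by
        apply LinearMap.ext; intro f
        change D.tr X (f ≫ (Z + Z')) = D.tr X (f ≫ Z) + D.tr X (f ≫ Z')
        rw [Preadditive.comp_add, map_add]
      map_smul' := fun a Z => by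
        apply LinearMap.ext; intro f
        change D.tr X (f ≫ (a • Z)) = a • D.tr X (f ≫ Z)
        rw [Linear.comp_smul, map_smul] }
  have hinj : Function.Injective Φ := by
    rw [← LinearMap.ker_eq_bot, LinearMap.ker_eq_bot']
    intro Z hZ
    apply D.nondeg_right
    intro f
    exact LinearMap.congr_fun hZ f
  have hdim : Module.finrank k (Y ⟶ D.S.obj X) = Module.finrank k (Module.Dual k (X ⟶ Y)) := by
    rw [Subspace.dual_finrank_eq, (D.c X Y).finrank_eq, Subspace.dual_finrank_eq]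
  have hsurj : Function.Surjective Φ :=
    (LinearMap.injective_iff_surjective_of_finrank_eq_finrank hdim).1 hinj
  obtain ⟨Z, hZ⟩ := hsurj l
  exact ⟨Z, fun f => by rw [← hZ]; rfl⟩

end SerreData

end Groth.Agent.Helper6.Serre
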