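import Groth.Agent.Lib.Helper6.Serre.Shift

set_option linter.unusedSectionVars false
set_option linter.unusedVariables false
set_option linter.unusedSimpArgs false
set_option autoImplicit false
set_option linter.style.haveILetI false
set_option maxHeartbeats 400000

universe w v u

noncomputable section

namespace Groth.Agent.Helper6.Serre

open CategoryTheory CategoryTheory.Limits CategoryTheory.Pretriangulated

variable {k : Type w} [Field k] {T : Type u} [Category.{v} T] [Preadditive T] [Linear k T]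
  [HasZeroObject T] [HasShift T ℤ] [∀ n : ℤ, (shiftFunctor T n).Additive]
  [∀ n : ℤ, (shiftFunctor T n).Linear k] [Pretriangulated T]

variable (D : SerreData k T) [∀ X Y : T, Module.Finite k (X ⟶ Y)]

namespace SerreData

/-- `S` turns `Hom(-, X)`-exactness into `Hom(X, -)`-exactness -/
lemma exact_S {A B C X : T} (f : A ⟶ B) (g : B ⟶ C)
    (hex : ∀ b : B ⟶ X, f ≫ b = 0 → ∃ c : C ⟶ X, b = g ≫ c)
    (q : X ⟶ D.S.obj B) (hq : q ≫ D.S.map g = 0) : ∃ r : X ⟶ D.S.obj A, q = r ≫ D.S.map f := by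
  have hker : LinearMap.ker (Linear.leftComp k X f) ≤
      LinearMap.ker ((D.tr B) ∘ₗ Linear.rightComp k B q) := by
    intro b hb
    rw [LinearMap.mem_ker] at hb ⊢
    obtain ⟨c, rfl⟩ := hex b hb
    change D.tr B ((g ≫ c) ≫ q) = 0
    rw [Category.assoc, D.tr_comm g (c ≫ q), Category.assoc, hq, comp_zero, map_zero]
  obtain ⟨m', hm'⟩ := exists_factor_of_ker_le _ _ hker
  obtain ⟨r, hr⟩ := D.rep_right m'
  refine ⟨r, ?_⟩
  apply D.ext_right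
  intro b
  have h1 : D.tr B (b ≫ q) = m' (f ≫ b) := hm' b
  rw [h1, hr, Category.assoc, D.tr_comm f (b ≫ r), Category.assoc]

variable [D.S.Additive]

/-- existence of the comparison morphism `ξ` -/
lemma exists_xi {A B C : T} (f : A ⟶ B) (g : B ⟶ C) (h : C ⟶ A⟦(1 : ℤ)⟧)
    (hT : Triangle.mk f g h ∈ distTriang T) {C₀ : T} (φ : D.S.obj B ⟶ C₀)
    (ψ : C₀ ⟶ (D.S.obj A)⟦(1 : ℤ)⟧) (hT₀ : Triangle.mk (D.S.map f) φ ψ ∈ distTriang T) :
    ∃ ξ : C₀ ⟶ D.S.obj C, φ ≫ ξ = D.S.map g ∧ ξ ≫ D.S.map h = -(ψ ≫ D.e' A) := by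
  let Θ : ((C ⟶ D.S.obj B) × (A⟦(1 : ℤ)⟧ ⟶ C₀)) →ₗ[k] (C ⟶ C₀) :=
    (Linear.rightComp k C φ).coprod (Linear.leftComp k C₀ h)
  let lam : Module.Dual k ((C ⟶ D.S.obj B) × (A⟦(1 : ℤ)⟧ ⟶ C₀)) :=
    ((D.tr B) ∘ₗ Linear.leftComp k (D.S.obj B) g).coprod
      (-((D.tr (A⟦(1 : ℤ)⟧)) ∘ₗ Linear.rightComp k (A⟦(1 : ℤ)⟧) (ψ ≫ D.e' A)))
  have hΘ : ∀ u w, Θ (u, w) = u ≫ φ + h ≫ w := fun u w => rfl
  have hlam : ∀ u w, lam (u, w) = D.tr B (g ≫ u) - D.tr (A⟦(1 : ℤ)⟧) (w ≫ ψ ≫ D.e' A) := by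
    intro u w
    change D.tr B (g ≫ u) + -(D.tr (A⟦(1 : ℤ)⟧) (w ≫ ψ ≫ D.e' A)) = _
    rw [sub_eq_add_neg]
  have hker : LinearMap.ker Θ ≤ LinearMap.ker lam := by
    rintro ⟨u, w⟩ h0
    rw [LinearMap.mem_ker] at h0 ⊢
    rw [hΘ] at h0
    rw [hlam]
    have hcomm : h ≫ (-w) = u ≫ φ := by
      rw [Preadditive.comp_neg, eq_comm, ← sub_eq_zero, sub_neg_eq_add]
      exact h0
    have hr1 := rot_of_distTriang _ (rot_of_distTriang _ hT)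
    have hr2 := rot_of_distTriang _ hT₀
    obtain ⟨v, hv1, hv2⟩ := complete_distinguished_triangle_morphism _ _ hr1 hr2 u (-w) hcomm
    change B⟦(1 : ℤ)⟧ ⟶ (D.S.obj A)⟦(1 : ℤ)⟧ at v
    obtain ⟨v', rfl⟩ := (shiftFunctor T (1 : ℤ)).map_surjective v
    have hv1' : (-(f⟦(1 : ℤ)⟧')) ≫ v'⟦(1 : ℤ)⟧' = (-w) ≫ ψ := hv1
    have hv2' : (-(g⟦(1 : ℤ)⟧')) ≫ u⟦(1 : ℤ)⟧' = v'⟦(1 : ℤ)⟧' ≫ (-((D.S.map f)⟦(1 : ℤ)⟧')) := hv2
    have e1 : g ≫ u = v' ≫ D.S.map f := by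
      apply (shiftFunctor T (1 : ℤ)).map_injective
      rw [Functor.map_comp, Functor.map_comp]
      rw [Preadditive.neg_comp, Preadditive.comp_neg, neg_inj] at hv2'
      exact hv2'
    have e2 : w ≫ ψ = (f ≫ v')⟦(1 : ℤ)⟧' := by
      rw [Preadditive.neg_comp, Preadditive.neg_comp, neg_inj] at hv1'
      rw [Functor.map_comp, hv1']
    rw [e1, ← Category.assoc, e2, e'_spec, ← D.tr_comm f v', sub_self]
  obtain ⟨l, hl⟩ := exists_factor_of_ker_le _ _ hker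
  obtain ⟨ξ, hξ⟩ := D.rep_right l
  refine ⟨ξ, ?_, ?_⟩
  · apply D.ext_right
    intro u
    have h1 : l (u ≫ φ) = D.tr B (g ≫ u) := by
      have := hl (u, 0)
      rw [hlam, hΘ, comp_zero, add_zero, zero_comp, map_zero, sub_zero] at this
      exact this.symm
    rw [← Category.assoc, ← hξ, h1, D.tr_comm g u]
  · apply D.ext_right
    intro w
    have h1 : l (h ≫ w) = -D.tr (A⟦(1 : ℤ)⟧) (w ≫ ψ ≫ D.e' A) := by
      have := hl (0, w)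
      rw [hlam, hΘ, zero_comp, zero_add, comp_zero, map_zero, zero_sub] at this
      exact this.symm
    rw [← Category.assoc, ← D.tr_comm h (w ≫ ξ), ← Category.assoc, ← hξ, h1, Preadditive.comp_neg,
      map_neg]

lemma xi_isIso {A B C : T} (f : A ⟶ B) (g : B ⟶ C) (h : C ⟶ A⟦(1 : ℤ)⟧)
    (hT : Triangle.mk f g h ∈ distTriang T) {C₀ : T} (φ : D.S.obj B ⟶ C₀)
    (ψ : C₀ ⟶ (D.S.obj A)⟦(1 : ℤ)⟧) (hT₀ : Triangle.mk (D.S.map f) φ ψ ∈ distTriang T)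
    (ξ : C₀ ⟶ D.S.obj C) (h1 : φ ≫ ξ = D.S.map g) (h2 : ξ ≫ D.S.map h = -(ψ ≫ D.e' A)) :
    IsIso ξ := by
  have hinj : ∀ {X : T} (p : X ⟶ C₀), p ≫ ξ = 0 → p = 0 := by
    intro X p hp
    have hpψ : p ≫ ψ = 0 := by
      have : (p ≫ ψ) ≫ D.e' A = 0 := by
        rw [Category.assoc, ← neg_eq_zero, ← Preadditive.comp_neg, ← h2, ← Category.assoc, hp,
          zero_comp]
      rw [← cancel_mono (D.e' A), this, zero_comp]
    have hex1 : ∃ q : X ⟶ D.S.obj B, p = q ≫ φ := Triangle.coyoneda_exact₃ _ hT₀ p hpψ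
    obtain ⟨q, hpq⟩ := hex1
    have hq : q ≫ D.S.map g = 0 := by
      rw [← h1, ← Category.assoc, ← hpq]
      exact hp
    obtain ⟨r, hr⟩ := D.exact_S f g (fun b hb => Triangle.yoneda_exact₂ _ hT b hb) q hq
    have h0 : D.S.map f ≫ φ = 0 := comp_distTriang_mor_zero₁₂ _ hT₀
    rw [hpq, hr, Category.assoc, h0, comp_zero]
  have hsurj : ∀ {X : T} (y : X ⟶ D.S.obj C), ∃ p : X ⟶ C₀, p ≫ ξ = y := by
    intro X y
    let z : X ⟶ (D.S.obj A)⟦(1 : ℤ)⟧ := -((y ≫ D.S.map h) ≫ inv (D.e' A))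
    have hz : z ≫ D.e' A = -(y ≫ D.S.map h) := by simp [z]
    have hz0 : z ≫ (D.S.map f)⟦(1 : ℤ)⟧' = 0 := by
      have h0 : h ≫ f⟦(1 : ℤ)⟧' = 0 := comp_distTriang_mor_zero₃₁ _ hT
      rw [← cancel_mono (D.e' B), zero_comp, Category.assoc, e'_naturality, ← Category.assoc, hz,
        Preadditive.neg_comp, Category.assoc, ← Functor.map_comp, h0, Functor.map_zero, comp_zero,
        neg_zero]
    have hex2 : ∃ p₀ : X ⟶ C₀, z = p₀ ≫ ψ := Triangle.coyoneda_exact₁ _ hT₀ z hz0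
    obtain ⟨p₀, hp₀'⟩ := hex2
    have h3 : (y - p₀ ≫ ξ) ≫ D.S.map h = 0 := by
      rw [Preadditive.sub_comp, Category.assoc, h2, Preadditive.comp_neg, ← Category.assoc, ← hp₀',
        hz, neg_neg, sub_self]
    obtain ⟨q, hq⟩ := D.exact_S g h (fun c hc => Triangle.yoneda_exact₃ _ hT c hc) (y - p₀ ≫ ξ) h3
    refine ⟨p₀ + q ≫ φ, ?_⟩
    rw [Preadditive.add_comp, Category.assoc, h1, ← hq]
    abel
  obtain ⟨p, hp⟩ := hsurj (𝟙 (D.S.obj C))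
  refine ⟨⟨p, ?_, hp⟩⟩
  rw [← sub_eq_zero]
  apply hinj
  rw [Preadditive.sub_comp, Category.assoc, hp, Category.comp_id, Category.id_comp, sub_self]

/-- a Serre functor is exact -/
theorem exists_exact : ∃ e : shiftFunctor T (1 : ℤ) ⋙ D.S ≅ D.S ⋙ shiftFunctor T (1 : ℤ),
    ∀ T' ∈ distTriang T, Triangle.mk (D.S.map T'.mor₁) (D.S.map T'.mor₂)
      (D.S.map T'.mor₃ ≫ e.hom.app T'.obj₁) ∈ distTriang T := by
  refine ⟨D.eIso, ?_⟩
  intro T' hT'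
  obtain ⟨C₀, φ, ψ, hT₀⟩ := distinguished_cocone_triangle (D.S.map T'.mor₁)
  have hT : Triangle.mk T'.mor₁ T'.mor₂ T'.mor₃ ∈ distTriang T := hT'
  obtain ⟨ξ, h1, h2⟩ := D.exists_xi _ _ _ hT φ ψ hT₀
  haveI := D.xi_isIso _ _ _ hT φ ψ hT₀ ξ h1 h2
  refine isomorphic_distinguished _ hT₀ _
    (Triangle.isoMk _ _ (Iso.refl _) (Iso.refl _) (asIso ξ).symm ?_ ?_ ?_)
  · change D.S.map T'.mor₁ ≫ 𝟙 _ = 𝟙 _ ≫ D.S.map T'.mor₁
    rw [Category.comp_id, Category.id_comp]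
  · change D.S.map T'.mor₂ ≫ inv ξ = 𝟙 _ ≫ φ
    rw [Category.id_comp, ← h1, Category.assoc, IsIso.hom_inv_id, Category.comp_id]
  · have key : D.S.map T'.mor₃ ≫ (-inv (D.e' T'.obj₁)) = inv ξ ≫ ψ := by
      rw [IsIso.eq_inv_comp, ← Category.assoc, h2, Preadditive.neg_comp, Preadditive.comp_neg,
        neg_neg, Category.assoc, IsIso.hom_inv_id, Category.comp_id]
    change (D.S.map T'.mor₃ ≫ (-inv (D.e' T'.obj₁))) ≫
      (shiftFunctor T (1 : ℤ)).map (𝟙 (D.S.obj T'.obj₁)) = inv ξ ≫ ψ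
    rw [CategoryTheory.Functor.map_id, Category.comp_id, key]

end SerreData

end Groth.Agent.Helper6.Serre
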