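import Mathlib.CategoryTheory.Linear.LinearFunctor
import Mathlib.LinearAlgebra.Dual.Lemmas
import Mathlib.RingTheory.Finiteness.Defs
import Mathlib.CategoryTheory.NatIso

set_option linter.unusedSectionVars false
set_option linter.unusedVariables false
set_option linter.unusedSimpArgs false
set_option autoImplicit false
set_option linter.style.haveILetI false
set_option maxHeartbeats 400000

noncomputable section

namespace Groth.Agent.Lib.Helper6.Serre

open CategoryTheory

universe w v u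

variable {k : Type w} [Field k] {T : Type u} [Category.{v} T] [Preadditive T] [Linear k T]
  [∀ X Y : T, Module.Finite k (X ⟶ Y)]

/-- Serre duality data for a functor. -/
structure SData (S : T ⥤ T) where
  /-- the duality -/
  c : ∀ X Y : T, (X ⟶ Y) ≃ₗ[k] Module.Dual k (Y ⟶ S.obj X)
  hc₁ : ∀ (X Y Y' : T) (f : X ⟶ Y) (g : Y ⟶ Y'),
      c X Y' (f ≫ g) = (c X Y f) ∘ₗ Linear.leftComp k (S.obj X) g
  hc₂ : ∀ (X' X Y : T) (a : X' ⟶ X) (f : X ⟶ Y),
      c X' Y (a ≫ f) = (c X Y f) ∘ₗ Linear.rightComp k Y (S.map a)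

namespace SData

variable {S S' : T ⥤ T} (D : SData (k := k) S) (D' : SData (k := k) S')

/-- the trace functional -/
def tr (X : T) : Module.Dual k (X ⟶ S.obj X) := D.c X X (𝟙 X)

lemma c_apply {X Y : T} (f : X ⟶ Y) (h : Y ⟶ S.obj X) : D.c X Y f h = D.tr X (f ≫ h) := by
  have := D.hc₁ X X Y (𝟙 X) f
  rw [Category.id_comp] at this
  rw [this]
  rfl

lemma tr_nat {X' X Y : T} (a : X' ⟶ X) (f : X ⟶ Y) (h : Y ⟶ S.obj X') :
    D.tr X' ((a ≫ f) ≫ h) = D.tr X (f ≫ h ≫ S.map a) := by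
  rw [← D.c_apply, ← D.c_apply, D.hc₂]
  rfl

lemma nondeg {X Y : T} (u v : Y ⟶ S.obj X)
    (h : ∀ f : X ⟶ Y, D.tr X (f ≫ u) = D.tr X (f ≫ v)) : u = v := by
  rw [← sub_eq_zero]
  rw [← Module.forall_dual_apply_eq_zero_iff k]
  intro ψ
  obtain ⟨f, rfl⟩ := (D.c X Y).surjective ψ
  rw [map_sub, D.c_apply, D.c_apply, h f, sub_self]

/-- the representing morphism of a functional -/
def rep {X Y : T} (θ : Module.Dual k (X ⟶ Y)) : Y ⟶ S.obj X :=
  (Module.evalEquiv k (Y ⟶ S.obj X)).symm (θ ∘ₗ (D.c X Y).symm.toLinearMap)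

lemma rep_spec {X Y : T} (θ : Module.Dual k (X ⟶ Y)) (f : X ⟶ Y) :
    D.tr X (f ≫ D.rep θ) = θ f := by
  rw [← D.c_apply]
  have h : Module.evalEquiv k (Y ⟶ S.obj X) (D.rep θ) = θ ∘ₗ (D.c X Y).symm.toLinearMap :=
    LinearEquiv.apply_symm_apply _ _
  have h2 := LinearMap.congr_fun h (D.c X Y f)
  rw [Module.evalEquiv_apply] at h2
  rw [Module.Dual.eval_apply] at h2
  rw [h2]
  simp

/-- the comparison morphism -/
def comp (X : T) : S.obj X ⟶ S'.obj X := D'.rep (D.tr X)

lemma comp_spec (X : T) (g : X ⟶ S.obj X) : D'.tr X (g ≫ SData.comp D D' X) = D.tr X g :=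
  D'.rep_spec _ _

lemma comp_natural {X' X : T} (a : X' ⟶ X) :
    S.map a ≫ SData.comp D D' X = SData.comp D D' X' ≫ S'.map a := by
  apply D'.nondeg
  intro f
  rw [← Category.assoc, comp_spec]
  have h1 := D'.tr_nat a f (SData.comp D D' X')
  rw [← h1, comp_spec]
  have h2 := D.tr_nat a f (𝟙 _)
  rw [Category.comp_id, Category.id_comp] at h2
  exact h2.symm

lemma comp_comp (X : T) : SData.comp D D' X ≫ SData.comp D' D X = 𝟙 _ := by
  apply D.nondeg
  intro f
  rw [← Category.assoc, comp_spec, comp_spec, Category.comp_id]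

/-- the natural isomorphism -/
def iso : S ≅ S' :=
  NatIso.ofComponents
    (fun X => ⟨SData.comp D D' X, SData.comp D' D X, comp_comp D D' X, comp_comp D' D X⟩)
    (fun a => comp_natural D D' a)

lemma iso_hom_app (X : T) : (iso D D').hom.app X = SData.comp D D' X := rfl

lemma iso_spec (X Y : T) (f : X ⟶ Y) :
    D.c X Y f = (D'.c X Y f) ∘ₗ Linear.rightComp k Y ((iso D D').hom.app X) := by
  apply LinearMap.ext
  intro h
  rw [LinearMap.comp_apply, D.c_apply, D'.c_apply, iso_hom_app]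
  change _ = D'.tr X (f ≫ h ≫ SData.comp D D' X)
  rw [← Category.assoc, comp_spec]

lemma iso_unique (φ : S ≅ S')
    (hφ : ∀ (X Y : T) (f : X ⟶ Y),
      D.c X Y f = (D'.c X Y f) ∘ₗ Linear.rightComp k Y (φ.hom.app X)) : φ = iso D D' := by
  apply Iso.ext
  apply NatTrans.ext
  funext X
  rw [iso_hom_app]
  apply D'.nondeg
  intro f
  rw [comp_spec]
  have := LinearMap.congr_fun (hφ X X (𝟙 X)) f
  rw [LinearMap.comp_apply] at this
  change D.tr X f = D'.tr X (f ≫ φ.hom.app X) at this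
  exact this.symm

end SData

end Groth.Agent.Lib.Helper6.Serre
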