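import Groth.Agent.Lib.Helper6.Serre.ExistB
import Groth.Agent.Lib.Helper6.Serre.Uniq

set_option linter.unusedSectionVars false
set_option linter.unusedVariables false
set_option linter.unusedSimpArgs false
set_option autoImplicit false
set_option linter.style.haveILetI false
set_option maxHeartbeats 400000

noncomputable section

namespace Groth.Agent.Lib.Helper6.Serre

open CategoryTheory

universe w v u

variable {k : Type w} [Field k] {T : Type u} [Category.{v} T] [Preadditive T] [Linear k T]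
  [∀ X Y : T, Module.Finite k (X ⟶ Y)]

section A

variable {S : T ⥤ T} (D : SData (k := k) S)

/-- representability from a Serre functor -/
def SData.repData (X : T) : RepData (k := k) X where
  SX := S.obj X
  e Y := LinearEquiv.ofBijective ((D.c X Y).toLinearMap : (X ⟶ Y) →ₗ[k] (Y ⟶ S.obj X) →ₗ[k] k).flip
    (LinearMap.flip_bijective_iff₁.2 (D.c X Y).bijective)
  he Y Y' g f := by
    apply LinearMap.ext
    intro h
    change D.c X Y' h (g ≫ f) = D.c X Y (h ≫ g) f
    rw [D.hc₁]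
    rfl

/-- post-composition with an isomorphism as a linear equivalence -/
def postIso {Z Z' : T} (Y : T) (ε : Z ≅ Z') : (Y ⟶ Z) ≃ₗ[k] (Y ⟶ Z') :=
  LinearEquiv.ofLinear (Linear.rightComp k Y ε.hom) (Linear.rightComp k Y ε.inv)
    (by ext h; simp) (by ext h; simp)

lemma postIso_apply {Z Z' : T} (Y : T) (ε : Z ≅ Z') (h : Y ⟶ Z) :
    postIso (k := k) Y ε h = h ≫ ε.hom := rfl

/-- corepresentability from a Serre functor which is an equivalence -/
def SData.corepData (E : T ≌ T) (D : SData (k := k) E.functor) (X : T) :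
    CorepData (k := k) X where
  RX := E.inverse.obj X
  e Y := (D.c (E.inverse.obj X) Y).trans
    (postIso (k := k) Y (E.counitIso.app X).symm).dualMap
  he Y Y' g f := by
    apply LinearMap.ext
    intro h
    change D.c (E.inverse.obj X) Y' (f ≫ g) (h ≫ (E.counitIso.app X).inv) =
      D.c (E.inverse.obj X) Y f ((g ≫ h) ≫ (E.counitIso.app X).inv)
    rw [D.hc₁, Category.assoc]
    rfl

end A

theorem serre_iff :
    (∃ (S : T ≌ T) (_ : S.functor.Additive) (_ : S.functor.Linear k)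
        (c : ∀ X Y : T, (X ⟶ Y) ≃ₗ[k] Module.Dual k (Y ⟶ S.functor.obj X)),
        (∀ (X Y Y' : T) (f : X ⟶ Y) (g : Y ⟶ Y'),
          c X Y' (f ≫ g) = (c X Y f) ∘ₗ Linear.leftComp k (S.functor.obj X) g) ∧
        (∀ (X' X Y : T) (a : X' ⟶ X) (f : X ⟶ Y),
          c X' Y (a ≫ f) = (c X Y f) ∘ₗ Linear.rightComp k Y (S.functor.map a))) ↔
    ((∀ X : T, ∃ (SX : T) (e : ∀ Y : T, (Y ⟶ SX) ≃ₗ[k] Module.Dual k (X ⟶ Y)),
        ∀ (Y Y' : T) (g : Y' ⟶ Y) (f : Y ⟶ SX),
          e Y' (g ≫ f) = (e Y f) ∘ₗ Linear.rightComp k X g) ∧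
      (∀ X : T, ∃ (RX : T) (e : ∀ Y : T, (RX ⟶ Y) ≃ₗ[k] Module.Dual k (Y ⟶ X)),
        ∀ (Y Y' : T) (g : Y ⟶ Y') (f : RX ⟶ Y),
          e Y' (f ≫ g) = (e Y f) ∘ₗ Linear.leftComp k X g)) := by
  constructor
  · rintro ⟨S, _, _, c, h1, h2⟩
    let D : SData (k := k) S.functor := ⟨c, h1, h2⟩
    refine ⟨fun X => ?_, fun X => ?_⟩
    · exact ⟨(D.repData X).SX, (D.repData X).e, (D.repData X).he⟩
    · exact ⟨(SData.corepData S D X).RX, (SData.corepData S D X).e, (SData.corepData S D X).he⟩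
  · rintro ⟨hR, hQ⟩
    let R : ∀ X : T, RepData (k := k) X := fun X =>
      ⟨(hR X).choose, (hR X).choose_spec.choose, (hR X).choose_spec.choose_spec⟩
    let Q : ∀ X : T, CorepData (k := k) X := fun X =>
      ⟨(hQ X).choose, (hQ X).choose_spec.choose, (hQ X).choose_spec.choose_spec⟩
    haveI := isEquivalence_sFun R Q
    refine ⟨(sFun R).asEquivalence, inferInstanceAs (sFun R).Additive,
      inferInstanceAs ((sFun R).Linear k), sC R, sC_hc₁ R, sC_hc₂ R⟩

end Groth.Agent.Lib.Helper6.Serre
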