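import Mathlib.CategoryTheory.Linear.LinearFunctor
import Mathlib.LinearAlgebra.Dual.Lemmas
import Mathlib.RingTheory.Finiteness.Defs
import Mathlib.CategoryTheory.NatIso
import Mathlib.CategoryTheory.Equivalence

set_option linter.unusedSectionVars false
set_option linter.unusedVariables false
set_option linter.unusedSimpArgs false
set_option autoImplicit false
set_option linter.style.haveILetI false
set_option maxHeartbeats 400000

noncomputable section

namespace Groth.Agent.Lib.Helper6.Serre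

open CategoryTheory

universe w v u

variable {k : Type w} [Field k] {T : Type u} [Category.{v} T] [Preadditive T] [Linear k T]
  [∀ X Y : T, Module.Finite k (X ⟶ Y)]

/-- representability data -/
structure RepData (X : T) where
  /-- the representing object -/
  SX : T
  /-- the iso -/
  e : ∀ Y : T, (Y ⟶ SX) ≃ₗ[k] Module.Dual k (X ⟶ Y)
  he : ∀ (Y Y' : T) (g : Y' ⟶ Y) (f : Y ⟶ SX),
    e Y' (g ≫ f) = (e Y f) ∘ₗ Linear.rightComp k X g

/-- corepresentability data -/
structure CorepData (X : T) where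
  /-- the corepresenting object -/
  RX : T
  /-- the iso -/
  e : ∀ Y : T, (RX ⟶ Y) ≃ₗ[k] Module.Dual k (Y ⟶ X)
  he : ∀ (Y Y' : T) (g : Y ⟶ Y') (f : RX ⟶ Y),
    e Y' (f ≫ g) = (e Y f) ∘ₗ Linear.leftComp k X g

namespace RepData

variable {X : T} (R : RepData (k := k) X)

/-- trace -/
def τ : Module.Dual k (X ⟶ R.SX) := R.e R.SX (𝟙 _)

lemma e_apply {Y : T} (f : Y ⟶ R.SX) (h : X ⟶ Y) : R.e Y f h = R.τ (h ≫ f) := by
  have := R.he R.SX Y f (𝟙 _)
  rw [Category.comp_id] at this
  rw [this]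
  rfl

lemma nondegL {Y : T} (u v : Y ⟶ R.SX) (h : ∀ a : X ⟶ Y, R.τ (a ≫ u) = R.τ (a ≫ v)) : u = v := by
  apply (R.e Y).injective
  apply LinearMap.ext
  intro a
  rw [e_apply, e_apply, h]

/-- representing morphism -/
def repL {Y : T} (θ : Module.Dual k (X ⟶ Y)) : Y ⟶ R.SX := (R.e Y).symm θ

lemma repL_spec {Y : T} (θ : Module.Dual k (X ⟶ Y)) (a : X ⟶ Y) : R.τ (a ≫ R.repL θ) = θ a := by
  rw [← e_apply]
  unfold repL
  rw [LinearEquiv.apply_symm_apply]

/-- the pairing as a bilinear map -/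
def pair (Y : T) : (Y ⟶ R.SX) →ₗ[k] (X ⟶ Y) →ₗ[k] k := (R.e Y).toLinearMap

lemma pair_bij (Y : T) : Function.Bijective (R.pair Y) := (R.e Y).bijective

lemma flip_bij (Y : T) : Function.Bijective (R.pair Y).flip :=
  LinearMap.flip_bijective_iff₁.2 (R.pair_bij Y)

/-- the other duality -/
def cMap (Y : T) : (X ⟶ Y) ≃ₗ[k] Module.Dual k (Y ⟶ R.SX) :=
  LinearEquiv.ofBijective (R.pair Y).flip (R.flip_bij Y)

lemma cMap_apply {Y : T} (a : X ⟶ Y) (f : Y ⟶ R.SX) : R.cMap Y a f = R.τ (a ≫ f) := by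
  change R.e Y f a = _
  rw [e_apply]

lemma nondegR {Y : T} (a b : X ⟶ Y) (h : ∀ f : Y ⟶ R.SX, R.τ (a ≫ f) = R.τ (b ≫ f)) : a = b := by
  apply (R.cMap Y).injective
  apply LinearMap.ext
  intro f
  rw [cMap_apply, cMap_apply, h]

end RepData

section Functor

variable (R : ∀ X : T, RepData (k := k) X)

/-- the map on morphisms -/
def sMap {X' X : T} (a : X' ⟶ X) : (R X').SX ⟶ (R X).SX :=
  (R X).repL ((R X').cMap X a)

lemma sMap_spec {X' X : T} (a : X' ⟶ X) (h : X ⟶ (R X').SX) :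
    (R X).τ (h ≫ sMap R a) = (R X').τ (a ≫ h) := by
  unfold sMap
  rw [RepData.repL_spec, RepData.cMap_apply]

/-- the Serre functor -/
@[reducible] def sFun : T ⥤ T where
  obj X := (R X).SX
  map a := sMap R a
  map_id X := by
    apply (R X).nondegL
    intro h
    rw [sMap_spec, Category.id_comp, Category.comp_id]
  map_comp {X'' X' X} a b := by
    apply (R X).nondegL
    intro h
    rw [sMap_spec, ← Category.assoc, sMap_spec, ← Category.assoc, sMap_spec, Category.assoc]

lemma sFun_map {X' X : T} (a : X' ⟶ X) : (sFun R).map a = sMap R a := rfl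

instance : (sFun R).Additive where
  map_add {X' X} {a b} := by
    apply (R X).nondegL
    intro h
    rw [sFun_map, sFun_map, sFun_map, Preadditive.comp_add, map_add, sMap_spec, sMap_spec,
      sMap_spec, Preadditive.add_comp, map_add]

instance : (sFun R).Linear k where
  map_smul {X' X} a r := by
    apply (R X).nondegL
    intro h
    rw [sFun_map, sFun_map, Linear.comp_smul, map_smul, sMap_spec, sMap_spec, Linear.smul_comp,
      map_smul]

lemma sMap_bijective (X' X : T) :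
    Function.Bijective (fun a : X' ⟶ X => sMap R a) := by
  have : (fun a : X' ⟶ X => sMap R a) = (fun θ => (R X).repL θ) ∘ ((R X').cMap X) := rfl
  rw [this]
  exact ((R X).e _).symm.bijective.comp ((R X').cMap X).bijective

instance : (sFun R).Faithful where
  map_injective {X' X} := (sMap_bijective R X' X).1

instance : (sFun R).Full where
  map_surjective {X' X} := (sMap_bijective R X' X).2

/-- the duality for the Serre functor -/
def sC (X Y : T) : (X ⟶ Y) ≃ₗ[k] Module.Dual k (Y ⟶ (sFun R).obj X) := (R X).cMap Y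

lemma sC_apply {X Y : T} (a : X ⟶ Y) (f : Y ⟶ (sFun R).obj X) :
    sC R X Y a f = (R X).τ (a ≫ f) := (R X).cMap_apply a f

lemma sC_hc₁ (X Y Y' : T) (f : X ⟶ Y) (g : Y ⟶ Y') :
    sC R X Y' (f ≫ g) = (sC R X Y f) ∘ₗ Linear.leftComp k ((sFun R).obj X) g := by
  apply LinearMap.ext
  intro h
  rw [LinearMap.comp_apply, sC_apply, sC_apply]
  change _ = (R X).τ (f ≫ g ≫ h)
  rw [Category.assoc]

lemma sC_hc₂ (X' X Y : T) (a : X' ⟶ X) (f : X ⟶ Y) :
    sC R X' Y (a ≫ f) = (sC R X Y f) ∘ₗ Linear.rightComp k Y ((sFun R).map a) := by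
  apply LinearMap.ext
  intro h
  rw [LinearMap.comp_apply, sC_apply, sC_apply]
  change _ = (R X).τ (f ≫ h ≫ sMap R a)
  rw [← Category.assoc, sMap_spec, Category.assoc]

end Functor

section EssSurj

variable (R : ∀ X : T, RepData (k := k) X) (Q : ∀ X : T, CorepData (k := k) X)

namespace CorepData

variable {X : T} (C : CorepData (k := k) X)

/-- cotrace -/
def σ : Module.Dual k (C.RX ⟶ X) := C.e C.RX (𝟙 _)

lemma e_apply {Y : T} (f : C.RX ⟶ Y) (h : Y ⟶ X) : C.e Y f h = C.σ (f ≫ h) := by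
  have := C.he C.RX Y f (𝟙 _)
  rw [Category.id_comp] at this
  rw [this]
  rfl

/-- pairing -/
def pair (Y : T) : (C.RX ⟶ Y) →ₗ[k] (Y ⟶ X) →ₗ[k] k := (C.e Y).toLinearMap

lemma flip_bij (Y : T) : Function.Bijective (C.pair Y).flip :=
  LinearMap.flip_bijective_iff₁.2 (C.e Y).bijective

/-- the other duality -/
def dMap (Y : T) : (Y ⟶ X) ≃ₗ[k] Module.Dual k (C.RX ⟶ Y) :=
  LinearEquiv.ofBijective (C.pair Y).flip (C.flip_bij Y)

lemma dMap_apply {Y : T} (h : Y ⟶ X) (f : C.RX ⟶ Y) : C.dMap Y h f = C.σ (f ≫ h) := by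
  change C.e Y f h = _
  rw [e_apply]

lemma nondeg {Y : T} (u v : Y ⟶ X) (h : ∀ f : C.RX ⟶ Y, C.σ (f ≫ u) = C.σ (f ≫ v)) : u = v := by
  apply (C.dMap Y).injective
  apply LinearMap.ext
  intro f
  rw [dMap_apply, dMap_apply, h]

/-- representing morphism -/
def rep {Y : T} (θ : Module.Dual k (C.RX ⟶ Y)) : Y ⟶ X := (C.dMap Y).symm θ

lemma rep_spec {Y : T} (θ : Module.Dual k (C.RX ⟶ Y)) (f : C.RX ⟶ Y) :
    C.σ (f ≫ C.rep θ) = θ f := by
  rw [← dMap_apply]
  unfold rep
  rw [LinearEquiv.apply_symm_apply]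

end CorepData

/-- the iso `S (R X) ≅ X` -/
def essIso (X : T) : (sFun R).obj (Q X).RX ≅ X where
  hom := (Q X).rep (R (Q X).RX).τ
  inv := (R (Q X).RX).repL (Q X).σ
  hom_inv_id := by
    apply (R (Q X).RX).nondegL
    intro f
    rw [Category.comp_id, ← Category.assoc, RepData.repL_spec, CorepData.rep_spec]
  inv_hom_id := by
    apply (Q X).nondeg
    intro f
    rw [Category.comp_id, ← Category.assoc, CorepData.rep_spec, RepData.repL_spec]

lemma essSurj_sFun (Q : ∀ X : T, CorepData (k := k) X) : (sFun R).EssSurj where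
  mem_essImage X := ⟨(Q X).RX, ⟨essIso R Q X⟩⟩

lemma isEquivalence_sFun (Q : ∀ X : T, CorepData (k := k) X) : (sFun R).IsEquivalence where
  essSurj := essSurj_sFun R Q

end EssSurj

end Groth.Agent.Lib.Helper6.Serre
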