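import Groth.Agent.Lib.Helper6.Serre.Basic

set_option linter.unusedSectionVars false
set_option linter.unusedVariables false
set_option linter.unusedSimpArgs false
set_option autoImplicit false
set_option linter.style.haveILetI false
set_option maxHeartbeats 400000

universe w v u

noncomputable section

namespace Groth.Agent.Helper6.Serre

open CategoryTheory CategoryTheory.Limits

variable {k : Type w} [Field k] {T : Type u} [Category.{v} T] [Preadditive T] [Linear k T]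
  [HasShift T ℤ] [∀ n : ℤ, (shiftFunctor T n).Additive] [∀ n : ℤ, (shiftFunctor T n).Linear k]

/-- the shift as a linear equivalence on morphisms -/
def shL (k : Type w) [Field k] [Linear k T] [∀ n : ℤ, (shiftFunctor T n).Linear k] (X Y : T) :
    (X ⟶ Y) ≃ₗ[k] (X⟦(1 : ℤ)⟧ ⟶ Y⟦(1 : ℤ)⟧) :=
  LinearEquiv.ofBijective (Functor.mapLinearMap k (shiftFunctor T (1 : ℤ)))
    ⟨(shiftFunctor T (1 : ℤ)).map_injective, (shiftFunctor T (1 : ℤ)).map_surjective⟩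

lemma shL_apply {X Y : T} (f : X ⟶ Y) : shL k X Y f = f⟦(1 : ℤ)⟧' := rfl

lemma shL_symm_map {X Y : T} (f : X ⟶ Y) : (shL k X Y).symm (f⟦(1 : ℤ)⟧') = f := by
  rw [← shL_apply (k := k), LinearEquiv.symm_apply_apply]

variable (D : SerreData k T) [∀ X Y : T, Module.Finite k (X ⟶ Y)]

namespace SerreData

lemma ext_right {X Y : T} (Z Z' : Y ⟶ D.S.obj X)
    (h : ∀ f : X ⟶ Y, D.tr X (f ≫ Z) = D.tr X (f ≫ Z')) : Z = Z' := by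
  rw [← sub_eq_zero]
  apply D.nondeg_right
  intro f
  rw [Preadditive.comp_sub, map_sub, h, sub_self]

lemma ext_right_sh {X Y : T} (Z Z' : Y⟦(1 : ℤ)⟧ ⟶ D.S.obj (X⟦(1 : ℤ)⟧))
    (h : ∀ φ : X ⟶ Y, D.tr (X⟦(1 : ℤ)⟧) (φ⟦(1 : ℤ)⟧' ≫ Z) = D.tr (X⟦(1 : ℤ)⟧) (φ⟦(1 : ℤ)⟧' ≫ Z')) :
    Z = Z' := by
  apply D.ext_right
  intro f
  obtain ⟨φ, rfl⟩ := (shiftFunctor T (1 : ℤ)).map_surjective f
  exact h φ

lemma exists_e' (X : T) : ∃ Z : (D.S.obj X)⟦(1 : ℤ)⟧ ⟶ D.S.obj (X⟦(1 : ℤ)⟧),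
    ∀ φ : X ⟶ D.S.obj X, D.tr (X⟦(1 : ℤ)⟧) (φ⟦(1 : ℤ)⟧' ≫ Z) = D.tr X φ := by
  obtain ⟨Z, hZ⟩ := D.rep_right (X := X⟦(1 : ℤ)⟧) (Y := (D.S.obj X)⟦(1 : ℤ)⟧)
    ((D.tr X) ∘ₗ (shL k X (D.S.obj X)).symm.toLinearMap)
  refine ⟨Z, fun φ => ?_⟩
  rw [← hZ]
  change D.tr X ((shL k X (D.S.obj X)).symm (φ⟦(1 : ℤ)⟧')) = _
  rw [shL_symm_map]

/-- the comparison `Σ S X ⟶ S Σ X` -/
def e' (X : T) : (D.S.obj X)⟦(1 : ℤ)⟧ ⟶ D.S.obj (X⟦(1 : ℤ)⟧) := (D.exists_e' X).choose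

lemma e'_spec {X : T} (φ : X ⟶ D.S.obj X) :
    D.tr (X⟦(1 : ℤ)⟧) (φ⟦(1 : ℤ)⟧' ≫ D.e' X) = D.tr X φ := (D.exists_e' X).choose_spec φ

lemma e'_naturality {X Y : T} (a : X ⟶ Y) :
    (D.S.map a)⟦(1 : ℤ)⟧' ≫ D.e' Y = D.e' X ≫ D.S.map (a⟦(1 : ℤ)⟧') := by
  apply D.ext_right_sh
  intro φ
  have h1 : D.tr (Y⟦(1 : ℤ)⟧) (φ⟦(1 : ℤ)⟧' ≫ (D.S.map a)⟦(1 : ℤ)⟧' ≫ D.e' Y) = D.tr X (a ≫ φ) := by
    rw [← Category.assoc, ← Functor.map_comp, e'_spec, ← D.tr_comm a φ]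
  have h2 : D.tr (Y⟦(1 : ℤ)⟧) (φ⟦(1 : ℤ)⟧' ≫ D.e' X ≫ D.S.map (a⟦(1 : ℤ)⟧')) = D.tr X (a ≫ φ) := by
    rw [← Category.assoc, ← D.tr_comm (a⟦(1 : ℤ)⟧') (φ⟦(1 : ℤ)⟧' ≫ D.e' X), ← Category.assoc,
      ← Functor.map_comp, e'_spec]
  rw [h1, h2]

lemma e'_cancel {X Y' : T} (f f' : Y'⟦(1 : ℤ)⟧ ⟶ (D.S.obj X)⟦(1 : ℤ)⟧)
    (h : f ≫ D.e' X = f' ≫ D.e' X) : f = f' := by
  obtain ⟨φ, rfl⟩ := (shiftFunctor T (1 : ℤ)).map_surjective f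
  obtain ⟨φ', rfl⟩ := (shiftFunctor T (1 : ℤ)).map_surjective f'
  congr 1
  apply D.ext_right
  intro a
  rw [← D.e'_spec, ← D.e'_spec (a ≫ φ'), Functor.map_comp, Functor.map_comp, Category.assoc,
    Category.assoc, h]

lemma e'_surj {X Y' : T} (y : Y'⟦(1 : ℤ)⟧ ⟶ D.S.obj (X⟦(1 : ℤ)⟧)) :
    ∃ f : Y'⟦(1 : ℤ)⟧ ⟶ (D.S.obj X)⟦(1 : ℤ)⟧, f ≫ D.e' X = y := by
  let Φ : (Y'⟦(1 : ℤ)⟧ ⟶ (D.S.obj X)⟦(1 : ℤ)⟧) →ₗ[k] (Y'⟦(1 : ℤ)⟧ ⟶ D.S.obj (X⟦(1 : ℤ)⟧)) :=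
    Linear.rightComp k (Y'⟦(1 : ℤ)⟧) (D.e' X)
  have hinj : Function.Injective Φ := fun f f' h => D.e'_cancel f f' h
  have hdim : Module.finrank k (Y'⟦(1 : ℤ)⟧ ⟶ (D.S.obj X)⟦(1 : ℤ)⟧) =
      Module.finrank k (Y'⟦(1 : ℤ)⟧ ⟶ D.S.obj (X⟦(1 : ℤ)⟧)) := by
    rw [← (shL k Y' (D.S.obj X)).finrank_eq, ← Subspace.dual_finrank_eq (K := k) (V := (Y' ⟶ D.S.obj X)),
      ← (D.c X Y').finrank_eq,
      ← Subspace.dual_finrank_eq (K := k) (V := (Y'⟦(1 : ℤ)⟧ ⟶ D.S.obj (X⟦(1 : ℤ)⟧))),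
      ← (D.c (X⟦(1 : ℤ)⟧) (Y'⟦(1 : ℤ)⟧)).finrank_eq, ← (shL k X Y').finrank_eq]
  have hsurj : Function.Surjective Φ :=
    (LinearMap.injective_iff_surjective_of_finrank_eq_finrank hdim).1 hinj
  exact hsurj y

instance e'_isIso (X : T) : IsIso (D.e' X) := by
  let W : T := (shiftFunctor T (-1 : ℤ)).obj (D.S.obj (X⟦(1 : ℤ)⟧))
  let α : W⟦(1 : ℤ)⟧ ≅ D.S.obj (X⟦(1 : ℤ)⟧) :=
    (shiftFunctorCompIsoId T (-1 : ℤ) 1 (by norm_num)).app _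
  obtain ⟨s', hs'⟩ := D.e'_surj (X := X) (Y' := W) α.hom
  have h1 : (α.inv ≫ s') ≫ D.e' X = 𝟙 _ := by rw [Category.assoc, hs', Iso.inv_hom_id]
  have h2 : D.e' X ≫ (α.inv ≫ s') = 𝟙 _ := by
    apply D.e'_cancel (Y' := D.S.obj X)
    rw [Category.assoc, h1, Category.comp_id, Category.id_comp]
  exact ⟨⟨α.inv ≫ s', h2, h1⟩⟩

/-- the commutation isomorphism `S Σ ≅ Σ S` (with the sign making `S` exact) -/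
def eIso : shiftFunctor T (1 : ℤ) ⋙ D.S ≅ D.S ⋙ shiftFunctor T (1 : ℤ) :=
  NatIso.ofComponents
    (fun X => (⟨-inv (D.e' X), -(D.e' X), by simp, by simp⟩ :
      D.S.obj (X⟦(1 : ℤ)⟧) ≅ (D.S.obj X)⟦(1 : ℤ)⟧))
    (by
      intro X Y a
      dsimp
      rw [Preadditive.comp_neg, Preadditive.neg_comp, neg_inj, IsIso.eq_inv_comp,
        ← Category.assoc, ← e'_naturality, Category.assoc, IsIso.hom_inv_id, Category.comp_id])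

lemma eIso_hom_app (X : T) : D.eIso.hom.app X = -inv (D.e' X) := rfl

end SerreData

end Groth.Agent.Helper6.Serre
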